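import Cfsg.Agent.Helper6.BN4

/-!
Helper18: an abstract (B,N)-pair lemma.  If `n ∈ N` does not lie in `B`, there is a distinguished generator `s`
(the first letter of a reduced word of `n`) such that no element `z` with `s⁻¹ z s ∈ B s B` is conjugated into `B`
by `n`.  This is the abstract reason why an element of a Chevalley group conjugating the fundamental root elements
into `B` must itself lie in `B`.
-/

set_option autoImplicit false

namespace Cfsg.Agent.Helper18.Sub

open Cfsg Cfsg.Agent.Helper6 DoubleCoset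

variable {G : Type*} [Group G]

theorem exists_S_conj_notMem (P : BNPair G) {n : G} (hn : n ∈ P.N) (hnB : n ∉ P.B) :
    ∃ s ∈ P.S, ∀ z : G, s⁻¹ * z * s ∈ dc P s → n⁻¹ * z * n ∉ P.B := by
  have hE : Expr P P.S n := expr_of_mem_N hn
  obtain ⟨l, hl, hlen⟩ := exists_reduced hE
  have hlen0 : len P P.S n ≠ 0 := by
    intro h0
    exact hnB ((len_eq_zero_iff hE).1 h0).1
  cases l with
  | nil => simp at hlen; exact absurd hlen.symm hlen0
  | cons s l' =>
    have hs : s ∈ P.S := hl.1 s List.mem_cons_self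
    have hl' : WordFor P P.S l' (s * n) := hl.tail (le_refl _)
    have hlen' : l'.length + 1 = len P P.S n := by simpa using hlen
    -- m = s⁻¹ n has smaller length
    set m := s⁻¹ * n with hm
    have hmN : m ∈ P.N := P.N.mul_mem (P.N.inv_mem (P.subset hs)) hn
    have hrel : Rel P (s * n) m := rel_S_inv_mul hs hn
    have hmE : Expr P P.S m := ⟨l', hl'.congr hrel⟩
    have hlenm : len P P.S m ≤ l'.length := len_le (hl'.congr hrel)
    have hsm : s * m = n := by rw [hm]; group
    have hlt : len P P.S m < len P P.S (s * m) := by rw [hsm]; omega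
    have K := key (le_refl P.S) _ m hmE rfl s hs hlt.le
    rw [hsm] at K
    refine ⟨s, hs, ?_⟩
    intro z hz hzB
    rw [mem_dc] at hz
    obtain ⟨b₁, hb₁, b₂, hb₂, e⟩ := hz
    -- s * (b₂ * m) ∈ dc m
    have h1 : s * (b₂ * m) ∈ dc P m := by
      have e1 : s * (b₂ * m) = b₁⁻¹ * m * (n⁻¹ * z * n) := by
        have e2 : n⁻¹ * z * n = m⁻¹ * (s⁻¹ * z * s) * m := by rw [hm]; group
        rw [e2, e]; group
      rw [e1, mem_dc]
      exact ⟨b₁⁻¹, P.B.inv_mem hb₁, _, hzB, rfl⟩
    have h2 : s * (b₂ * m) ∈ dc P n := K (b₂ * m) (mul_mem_dc P hb₂ (self_mem_dc P m))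
    have h3 := rel_of_dc_eq hn hmN (mem_dc_both h2 h1)
    have h4 := len_congr (J := P.S) h3
    omega

end Cfsg.Agent.Helper18.Sub
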