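import Cfsg.Agent.Helper18.Sub.BNLemma
import Cfsg.Agent.Helper18.Aut.ChevGL
import Cfsg.Agent.Helper19.Poinc.ChevStep
import Cfsg.Agent.S1042

/-!
Helper18: in a Chevalley group over an arbitrary field, an element that conjugates the fundamental root elements
`x_{p_i}(1)` into `B` lies in `B`; an element commuting with all the `x_r(1)` is trivial.
-/

set_option autoImplicit false

namespace Cfsg.Agent.Helper18.Sub

open Cfsg Cfsg.Lie Cfsg.Agent.Helper18 Cfsg.Agent.Helper18.Aut Cfsg.Agent.Helper6 DoubleCoset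

section

variable {F : Type*} [Field F] (D : ChevalleyDatum)
  (hD : D ∈ [chevG2, chevB2, chevD4, chevF4, chevE6, chevE7, chevE8])

include hD

omit hD in
/-- conjugating `x_p(1) y` (`y ∈ U_p`) by an element of a subgroup normalising `U_p` -/
theorem conj_step {G : Type*} [Group G] (Y : Subgroup G) (a k y : G) (hk : k ∈ Subgroup.normalizer (Y : Set G))
    (hy : y ∈ Y) : ∃ y' ∈ Y, k⁻¹ * (a * y) * k = (k⁻¹ * a * k) * y' := by
  refine ⟨k⁻¹ * y * k, ?_, by group⟩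
  have := (Subgroup.mem_normalizer_iff.mp (inv_mem hk)) y
  rw [inv_inv] at this
  exact this.mp hy

/-- for `b ∈ B`: `b⁻¹ x_p(1) b = x_p(c) y` with `c ≠ 0`, `y ∈ U_p` -/
theorem borel_conj_simple (i : ℕ) (hi : i < D.rank) (b : GL D.Idx F) (hb : b ∈ D.borelSubgroup F) :
    ∃ c : F, c ≠ 0 ∧ ∃ y ∈ Up D F i, b⁻¹ * xGL D F (D.simple i) 1 * b = xGL D F (D.simple i) c * y := by
  have hpi := simple_lt D (simpleOK_of_mem D hD) i hi
  have h25 := commHyp (F := F) D hD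
  obtain ⟨u, hu, h, hh, rfl⟩ := mem_borel_decomp D hD b hb
  obtain ⟨u', hu', t, rfl⟩ := mem_posUnipotent_decomp D hD h25 i hi u hu
  have hX : ∀ t : F, xGL D F (D.simple i) t ∈ Subgroup.normalizer (Up D F i : Set (GL D.Idx F)) := fun t =>
    rootSubgroup_le_normalizer_Up D hD h25 i hi
      (Subgroup.mem_sup_left (Aut.xGL_mem_rootSubgroup D hD _ t))
  have hU' : u' ∈ Subgroup.normalizer (Up D F i : Set (GL D.Idx F)) := Subgroup.le_normalizer hu'
  have hH : h ∈ Subgroup.normalizer (Up D F i : Set (GL D.Idx F)) :=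
    Cfsg.Agent.Helper19.Poinc.diagonalSubgroup_le_normalizer_Up D hD i hh
  set a := xGL D F (D.simple i) 1 with ha
  -- step 1: conjugate by u'
  obtain ⟨y₁, hy₁, e₁⟩ := conj_step (Up D F i) a u' 1 hU' (one_mem _)
  have e₁' : u'⁻¹ * a * u' = a * ((a⁻¹ * u'⁻¹ * a) * u') := by group
  have hy₁' : (a⁻¹ * u'⁻¹ * a) * u' ∈ Up D F i := by
    apply mul_mem _ hu'
    have := (Subgroup.mem_normalizer_iff.mp (inv_mem (hX 1))) u'⁻¹
    rw [inv_inv] at this
    exact this.mp (inv_mem hu')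
  -- step 2: conjugate by x_p(t)
  obtain ⟨y₂, hy₂, e₂⟩ := conj_step (Up D F i) a (xGL D F (D.simple i) t) _ (hX t) hy₁'
  have hcomm : (xGL D F (D.simple i) t)⁻¹ * a * xGL D F (D.simple i) t = a := by
    rw [ha, xGL_inv' D hD, ← Aut.xGL_add' D hD _ hpi, ← Aut.xGL_add' D hD _ hpi]
    congr 1; ring
  rw [hcomm] at e₂
  -- step 3: conjugate by h
  obtain ⟨y₃, hy₃, e₃⟩ := conj_step (Up D F i) a h y₂ hH hy₂
  obtain ⟨χ, hχ, -, hc⟩ := diagonalSubgroup_char D hD h⁻¹ ((D.diagonalSubgroup F).inv_mem hh)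
  have e₄ : h⁻¹ * a * h = xGL D F (D.simple i) (χ (D.simple i) * 1) := by
    have := hc _ hpi 1
    rw [ha, this]; group
  refine ⟨χ (D.simple i) * 1, by rw [mul_one]; exact hχ _, y₃, hy₃, ?_⟩
  rw [← e₄, ← e₃, ← e₂, ← e₁']
  group

/-- `n_p⁻¹ (b⁻¹ x_p(1) b) n_p ∈ B n_p B` for `b ∈ B` -/
theorem conj_simple_mem_dc (i : ℕ) (hi : i < D.rank) (b : GL D.Idx F) (hb : b ∈ D.borelSubgroup F) :
    ∃ b₁ ∈ D.borelSubgroup F, ∃ b₂ ∈ D.borelSubgroup F,
      (wordGL D F (D.nWord (D.simple i) (1 : F)))⁻¹ * (b⁻¹ * xGL D F (D.simple i) 1 * b) *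
        wordGL D F (D.nWord (D.simple i) (1 : F)) = b₁ * wordGL D F (D.nWord (D.simple i) (1 : F)) * b₂ := by
  have hpi := simple_lt D (simpleOK_of_mem D hD) i hi
  have hnl := neg_lt D hD _ hpi
  have h25 := commHyp (F := F) D hD
  obtain ⟨c, hc, y, hy, e⟩ := borel_conj_simple D hD i hi b hb
  set s := wordGL D F (D.nWord (D.simple i) (1 : F)) with hs
  -- s normalises U_p
  have hsN : s ∈ Subgroup.normalizer (Up D F i : Set (GL D.Idx F)) := by
    have hle := rootSubgroup_le_normalizer_Up D hD h25 i hi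
    have h1 : ∀ t : F, xGL D F (D.simple i) t ∈ Subgroup.normalizer (Up D F i : Set (GL D.Idx F)) := fun t =>
      hle (Subgroup.mem_sup_left (Aut.xGL_mem_rootSubgroup D hD _ t))
    have h2 : ∀ t : F, xGL D F (D.neg (D.simple i)) t ∈ Subgroup.normalizer (Up D F i : Set (GL D.Idx F)) :=
      fun t => hle (Subgroup.mem_sup_right (Aut.xGL_mem_rootSubgroup D hD _ t))
    have : s = xGL D F (D.simple i) 1 * (xGL D F (D.neg (D.simple i)) (-(1:F)⁻¹) * (xGL D F (D.simple i) 1 * 1)) := by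
      rw [hs]; rfl
    rw [this]
    exact mul_mem (h1 _) (mul_mem (h2 _) (mul_mem (h1 _) (one_mem _)))
  obtain ⟨y', hy', e'⟩ := conj_step (Up D F i) (xGL D F (D.simple i) c) s y hsN hy
  -- s⁻¹ x_p(c) s = x_{-p}(η c)
  obtain ⟨η, hη, hconj⟩ := nGL_conj_xGL D hD (nConjHyp (F := F) D hD) i _ hi hnl
  rw [reflectRoot_neg D hD i _ hi hpi, reflectRoot_simple D hD i, Aut.neg_neg' D hD _ hpi, ← hs] at hconj
  have hηη : (η : F) * ((η : F) * c) = c := by
    rcases hη with rfl | rfl <;> simp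
  have e₂ : s⁻¹ * xGL D F (D.simple i) c * s = xGL D F (D.neg (D.simple i)) ((η : F) * c) := by
    have := hconj ((η : F) * c)
    rw [hηη] at this
    rw [mul_assoc, ← this]; group
  have hηc : (η : F) * c ≠ 0 := by
    rcases hη with rfl | rfl <;> simpa using hc
  rcases xGL_neg_simple_mem D hD i hi ((η : F) * c) with h0 | ⟨b₁, hb₁, b₂, hb₂, e₃⟩
  · exact absurd h0 hηc
  · refine ⟨b₁, hb₁, b₂ * y', mul_mem hb₂ (posUnipotent_le_borel D hD (Cfsg.Agent.Helper19.Poinc.Up_le_posUnipotent D i hy')), ?_⟩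
    rw [e, e', e₂, e₃, ← hs]
    group

/-- an element of the Chevalley group that conjugates the fundamental root elements `x_p(1)` into `B` lies in `B` -/
theorem mem_borel_of_conj (g : GL D.Idx F) (hg : g ∈ D.group F)
    (h : ∀ i < D.rank, g⁻¹ * xGL D F (D.simple i) 1 * g ∈ D.borelSubgroup F) : g ∈ D.borelSubgroup F := by
  obtain ⟨P, hB, hN, hS⟩ := Cfsg.Agent.S1042.result (F := F) D hD
  have hmemB : ∀ b : ↥(D.group F), b ∈ P.B ↔ (b : GL D.Idx F) ∈ D.borelSubgroup F := by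
    intro b; rw [hB, Subgroup.mem_subgroupOf]
  obtain ⟨n, hn, hgn⟩ := Cfsg.Agent.Helper6.bruhat_exists P ⟨g, hg⟩
  rw [mem_dc] at hgn
  obtain ⟨b, hb, b', hb', e⟩ := hgn
  by_cases hnB : n ∈ P.B
  · have : (⟨g, hg⟩ : ↥(D.group F)) ∈ P.B := by
      rw [e]; exact mul_mem (mul_mem hb hnB) hb'
    exact (hmemB _).mp this
  · exfalso
    obtain ⟨s, hsS, hs⟩ := exists_S_conj_notMem P hn hnB
    have hsS' := hsS
    rw [hS] at hsS'
    obtain ⟨i, hi, hsi⟩ := hsS'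
    have hsv : (s : GL D.Idx F) = wordGL D F (D.nWord (D.simple i) (1 : F)) :=
      Units.ext (by rw [hsi, nWordGL_val D hD])
    set x : ↥(D.group F) := ⟨xGL D F (D.simple i) 1, xGL_mem_group' D hD _ _⟩ with hx
    have hz := hs (b⁻¹ * x * b) ?_
    · apply hz
      -- n⁻¹ z n = b' (g⁻¹ x g) b'⁻¹
      have e2 : n⁻¹ * (b⁻¹ * x * b) * n = b' * ((⟨g, hg⟩ : ↥(D.group F))⁻¹ * x * ⟨g, hg⟩) * b'⁻¹ := by
        rw [e]; group
      rw [e2]
      refine mul_mem (mul_mem hb' ?_) (inv_mem hb')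
      rw [hmemB]
      exact h i hi
    · rw [mem_dc]
      obtain ⟨b₁, hb₁, b₂, hb₂, e₃⟩ := conj_simple_mem_dc D hD i hi (b : GL D.Idx F) ((hmemB b).mp hb)
      have hBG : D.borelSubgroup F ≤ D.group F := (Cfsg.Agent.S1043.result D hD).1
      refine ⟨⟨b₁, hBG hb₁⟩, (hmemB _).mpr hb₁, ⟨b₂, hBG hb₂⟩, (hmemB _).mpr hb₂, ?_⟩
      apply Subtype.ext
      simp only [Subgroup.coe_mul, Subgroup.coe_inv, hsv]
      exact e₃

end

end Cfsg.Agent.Helper18.Sub
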