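import Cfsg.Agent.Helper18.Sub.Cent
import Cfsg.Agent.S1038

/-!
Helper18: an element of a Chevalley group (arbitrary field) commuting with all root elements `x_r(1)` is trivial.
-/

set_option autoImplicit false

namespace Cfsg.Agent.Helper18.Sub

open Cfsg Cfsg.Lie Cfsg.Agent.Helper18 Cfsg.Agent.Helper18.Aut Cfsg.Agent.Helper6 DoubleCoset

section

variable {F : Type*} [Field F] (D : ChevalleyDatum)
  (hD : D ∈ [chevG2, chevB2, chevD4, chevF4, chevE6, chevE7, chevE8])

/-- the subgroup generated by the root elements `x_r(1)` -/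
def L1 (D : ChevalleyDatum) (F : Type*) [Field F] : Subgroup (GL D.Idx F) :=
  Subgroup.closure {y | ∃ r, r < D.nroots ∧ y = xGL D F r 1}

include hD

/-- the longest element of the Weyl group is represented by a word in the `n_p` -/
theorem exists_longest_word :
    ∃ w : List ℕ, (∀ i ∈ w, i < D.rank) ∧ cjg (nWordsGL D F w) (D.posUnipotent F) = D.negUnipotent F := by
  have key : ∀ (tabs w : List ℕ), tabsOK D tabs = true → w0OK D tabs w (hlfOf D) = true →
      D.nroots = hlfOf D + hlfOf D →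
      ∃ w : List ℕ, (∀ i ∈ w, i < D.rank) ∧ cjg (nWordsGL D F w) (D.posUnipotent F) = D.negUnipotent F := by
    intro tabs w ht hw0 hn
    have hpos := posOK_of_mem D hD
    have hw0' := hw0
    unfold w0OK at hw0'
    simp only [Bool.and_eq_true, List.all_eq_true, decide_eq_true_eq, beq_iff_eq] at hw0'
    obtain ⟨⟨hw, hfwd⟩, -⟩ := hw0'
    have hnmem := nWordsGL_mem (F := F) D hD w hw
    refine ⟨w, hw, ?_⟩
    apply cjg_pos_eq_neg D hD _ hnmem
    have hle : cjg (nWordsGL D F w) (D.posUnipotent F) ≤ D.negUnipotent F := by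
      apply cjg_closure_le D hD (nWordsGL D F w) _ _
      intro r hr
      have hr' := (isPosRoot_iff D _ hpos r).mp hr
      refine ⟨rho D w r, ?_, cjg_word_rootSubgroup D hD w hw r hr'.2⟩
      rw [isNegRoot_iff D _ hpos]
      have h1 := hfwd r (List.mem_range'_1.mpr ⟨hr'.1, by omega⟩)
      rw [(rhoFast_eq D tabs ht w hw r hr'.2).1] at h1
      exact ⟨h1, rho_lt D hD w hw r hr'.2⟩
    apply le_antisymm _ bot_le
    rw [← pos_inf_neg' (F := F) D hD, inf_comm]
    exact inf_le_inf_left _ hle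
  have hD' := hD
  simp only [List.mem_cons, List.not_mem_nil, or_false] at hD'
  rcases hD' with rfl | rfl | rfl | rfl | rfl | rfl | rfl
  · exact key _ _ tabsOK_G2 w0OK_G2 (by decide)
  · exact key _ _ tabsOK_B2 w0OK_B2 (by decide)
  · exact key _ _ tabsOK_D4 w0OK_D4 (by decide)
  · exact key _ _ tabsOK_F4 w0OK_F4 (by decide)
  · exact key _ _ tabsOK_E6 w0OK_E6 (by decide)
  · exact key _ _ tabsOK_E7 w0OK_E7 (by decide)
  · exact key _ _ tabsOK_E8 w0OK_E8 (by decide)

/-- `x_r(-1) ∈ L1` -/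
theorem xGL_neg_one_mem_L1 (r : ℕ) (hr : r < D.nroots) : xGL D F r (-1) ∈ L1 D F := by
  rw [← xGL_inv' D hD]
  exact inv_mem (Subgroup.subset_closure ⟨r, hr, rfl⟩)

/-- the `n_p = n_p(1)` lie in `L1` -/
theorem nWordGL_mem_L1 (r : ℕ) (hr : r < D.nroots) : wordGL D F (D.nWord r (1 : F)) ∈ L1 D F := by
  have hnl := neg_lt D hD _ hr
  have : wordGL D F (D.nWord r (1 : F)) = xGL D F r 1 * (xGL D F (D.neg r) (-(1:F)⁻¹) * (xGL D F r 1 * 1)) := rfl
  rw [this, inv_one]
  exact mul_mem (Subgroup.subset_closure ⟨r, hr, rfl⟩)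
    (mul_mem (xGL_neg_one_mem_L1 D hD _ hnl) (mul_mem (Subgroup.subset_closure ⟨r, hr, rfl⟩) (one_mem _)))

theorem nWordsGL_mem_L1 (w : List ℕ) (hw : ∀ i ∈ w, i < D.rank) : nWordsGL D F w ∈ L1 D F := by
  apply Subgroup.list_prod_mem
  intro g hg
  obtain ⟨i, hi, rfl⟩ := List.mem_map.mp hg
  exact nWordGL_mem_L1 D hD _ (simple_lt D (simpleOK_of_mem D hD) i (hw i hi))

/-- `n H n⁻¹ = H` for `n ∈ N` -/
theorem cjg_monomial_diag (n : GL D.Idx F) (hn : n ∈ D.monomialSubgroup F) :
    cjg n (D.diagonalSubgroup F) = D.diagonalSubgroup F := by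
  have hnorm := Cfsg.Agent.S1038.result (F := F) D hD
  have hHN := diagonalSubgroup_le_monomialSubgroup (F := F) D
  have key : ∀ n ∈ D.monomialSubgroup F, cjg n (D.diagonalSubgroup F) ≤ D.diagonalSubgroup F := by
    intro n hn x hx
    rw [mem_cjg] at hx
    have h1 := hnorm.conj_mem ⟨n⁻¹ * x * n, hHN hx⟩ (Subgroup.mem_subgroupOf.mpr hx) ⟨n, hn⟩
    rw [Subgroup.mem_subgroupOf] at h1
    have e : ((⟨n, hn⟩ * ⟨n⁻¹ * x * n, hHN hx⟩ * (⟨n, hn⟩ : ↥(D.monomialSubgroup F))⁻¹ :
        ↥(D.monomialSubgroup F)) : GL D.Idx F) = x := by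
      simp only [Subgroup.coe_mul, Subgroup.coe_inv]; group
    rwa [e] at h1
  apply le_antisymm (key n hn)
  have := cjg_mono n (key n⁻¹ (inv_mem hn))
  rwa [cjg_cjg_inv] at this

/-- an element of the Chevalley group commuting with all the `x_r(1)` is trivial -/
theorem eq_one_of_centralizes (g : GL D.Idx F) (hg : g ∈ D.group F)
    (h : ∀ r < D.nroots, g * xGL D F r 1 = xGL D F r 1 * g) : g = 1 := by
  have hsim := simpleOK_of_mem D hD
  -- g commutes with L1
  have hL : ∀ y ∈ L1 D F, g * y = y * g := by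
    have : L1 D F ≤ Subgroup.centralizer ({g} : Set (GL D.Idx F)) := by
      unfold L1
      rw [Subgroup.closure_le]
      rintro y ⟨r, hr, rfl⟩
      rw [SetLike.mem_coe, Subgroup.mem_centralizer_iff]
      intro z hz
      rw [Set.mem_singleton_iff] at hz
      rw [hz]; exact h r hr
    intro y hy
    have := Subgroup.mem_centralizer_iff.mp (this hy) g rfl
    exact this
  -- g ∈ B
  have hgB : g ∈ D.borelSubgroup F := by
    apply mem_borel_of_conj D hD g hg
    intro i hi
    have hpi := simple_lt D hsim i hi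
    have e : g⁻¹ * xGL D F (D.simple i) 1 * g = xGL D F (D.simple i) 1 := by
      rw [mul_assoc, ← h _ hpi]; group
    rw [e]
    exact posUnipotent_le_borel D hD (xGL_mem_posUnipotent D hD _ ⟨simple_pos D hD i hi, hpi⟩ _)
  -- g ∈ n₀ B n₀⁻¹ = V H
  obtain ⟨w, hw, hn₀⟩ := exists_longest_word (F := F) D hD
  set n₀ := nWordsGL D F w with hn₀def
  have hn₀N : n₀ ∈ D.monomialSubgroup F := nWordsGL_mem D hD w hw
  have hgn : g ∈ cjg n₀ (D.borelSubgroup F) := by
    rw [mem_cjg]
    have e : n₀⁻¹ * g * n₀ = g := by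
      have := hL n₀ (nWordsGL_mem_L1 D hD w hw)
      rw [mul_assoc, this]; group
    rw [e]; exact hgB
  have hcB : cjg n₀ (D.borelSubgroup F) = D.negUnipotent F ⊔ D.diagonalSubgroup F := by
    unfold ChevalleyDatum.borelSubgroup cjg
    rw [Subgroup.map_sup]
    show cjg n₀ _ ⊔ cjg n₀ _ = _
    rw [hn₀, cjg_monomial_diag D hD n₀ hn₀N]
  have hgH : g ∈ D.diagonalSubgroup F := by
    have : g ∈ D.borelSubgroup F ⊓ (D.negUnipotent F ⊔ D.diagonalSubgroup F) := by
      rw [← hcB]; exact Subgroup.mem_inf.mpr ⟨hgB, hgn⟩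
    rwa [(Cfsg.Agent.S1037.result (F := F) D hD).2] at this
  -- g is diagonal with trivial character
  obtain ⟨χ, -, hdiag, hc⟩ := diagonalSubgroup_char D hD g hgH
  have hχ : ∀ r < D.nroots, χ r = 1 := by
    intro r hr
    have h1 := hc r hr 1
    rw [h r hr, mul_one] at h1
    have h2 := mul_right_cancel h1
    exact (Aut.xGL_injective D hD r hr h2).symm
  apply Units.ext
  rw [hdiag, Units.val_one]
  ext a b
  rcases a with a | a <;> rcases b with b | b <;>
    simp [Matrix.diagonal_apply, Matrix.one_apply, hχ]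

end

end Cfsg.Agent.Helper18.Sub
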