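import Cfsg.Agent.Helper18.Sub.Frob
import Cfsg.Agent.S1100
import Cfsg.Agent.S1026
import Cfsg.Agent.S1036

/-!
Helper18: the fixed points of a field automorphism `f` on a Chevalley group (arbitrary field): every fixed element
is `l h` with `l` in the subgroup `Lf` generated by the root elements `x_r(t)`, `f t = t`, and `h ∈ H` fixed.
Consequently every subgroup between `Lf` and the group of fixed points is normal in the group of fixed points.
-/

set_option autoImplicit false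

namespace Cfsg.Agent.Helper18.Sub

open Cfsg Cfsg.Lie Cfsg.Agent.Helper18 Cfsg.Agent.Helper18.Aut Cfsg.Agent.S1080

section

variable {F : Type*} [Field F] (D : ChevalleyDatum)
  (hD : D ∈ [chevG2, chevB2, chevD4, chevF4, chevE6, chevE7, chevE8]) (f : F ≃+* F)

/-- the subgroup generated by the root elements with parameters fixed by `f` -/
def Lf (D : ChevalleyDatum) {F : Type*} [Field F] (f : F ≃+* F) : Subgroup (GL D.Idx F) :=
  Subgroup.closure {g | ∃ (r : ℕ) (t : F), f t = t ∧ (g : Matrix D.Idx D.Idx F) = D.x F r t}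

include hD

theorem xGL_mem_Lf (r : ℕ) (t : F) (ht : f t = t) : xGL D F r t ∈ Lf D f :=
  Subgroup.subset_closure ⟨r, t, ht, xGL_val D _ (triOK_of_mem D hD) r t⟩

theorem L1_le_Lf : L1 D F ≤ Lf D f := by
  unfold L1
  rw [Subgroup.closure_le]
  rintro y ⟨r, hr, rfl⟩
  exact xGL_mem_Lf D hD f r 1 (map_one f)

/-- elements of `U` fixed by `f` lie in `Lf` -/
theorem pos_fix (u : GL D.Idx F) (hu : u ∈ D.posUnipotent F) (hfix : glEquiv D f u = u) : u ∈ Lf D f := by
  have htri := triOK_of_mem D hD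
  obtain ⟨t, ⟨ht0, hut⟩, huniq⟩ := (Cfsg.Agent.S1026.result (F := F) D hD).1 u hu
  have huw : u = wordGL D F (D.posRoots.map fun r => (r, t r)) :=
    Units.ext (by rw [hut, wordGL_val D _ htri])
  have h1 : glEquiv D f u = wordGL D F (D.posRoots.map fun r => (r, f (t r))) := by
    conv_lhs => rw [huw]
    rw [glEquiv_wordGL D hD, List.map_map]
    rfl
  have h2 : (fun r => f (t r)) = t := by
    apply huniq
    refine ⟨fun r hr => by simp [ht0 r hr], ?_⟩
    rw [← wordGL_val D _ htri, ← h1, hfix]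
  have hft : ∀ r, f (t r) = t r := fun r => congrFun h2 r
  rw [huw]
  apply Subgroup.list_prod_mem
  intro y hy
  obtain ⟨p, hp, rfl⟩ := List.mem_map.mp hy
  obtain ⟨r, -, rfl⟩ := List.mem_map.mp hp
  exact xGL_mem_Lf D hD f r (t r) (hft r)

/-- the diagonal subgroup is commutative -/
theorem diag_comm (h h' : GL D.Idx F) (hh : h ∈ D.diagonalSubgroup F) (hh' : h' ∈ D.diagonalSubgroup F) :
    h * h' = h' * h := by
  obtain ⟨χ, -, e, -⟩ := diagonalSubgroup_char D hD h hh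
  obtain ⟨χ', -, e', -⟩ := diagonalSubgroup_char D hD h' hh'
  apply Units.ext
  rw [Units.val_mul, Units.val_mul, e, e', Matrix.diagonal_mul_diagonal, Matrix.diagonal_mul_diagonal]
  congr 1
  ext i
  exact mul_comm _ _

/-- a fixed element of `H` normalises `Lf` -/
theorem diag_fix_conj (h : GL D.Idx F) (hh : h ∈ D.diagonalSubgroup F) (hfix : glEquiv D f h = h)
    (y : GL D.Idx F) (hy : y ∈ Lf D f) : h * y * h⁻¹ ∈ Lf D f := by
  have htri := triOK_of_mem D hD
  obtain ⟨χ, -, e, hc⟩ := diagonalSubgroup_char D hD h hh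
  have hχ : ∀ r < D.nroots, f (χ r) = χ r := by
    intro r hr
    have := (glEquiv_eq_self_iff D f h).mp hfix (Sum.inr ⟨r, hr⟩) (Sum.inr ⟨r, hr⟩)
    rw [e] at this
    simpa using this
  have hle : Lf D f ≤ (Lf D f).comap (MulAut.conj h).toMonoidHom := by
    unfold Lf
    rw [Subgroup.closure_le]
    rintro g ⟨r, t, ht, hg⟩
    have hgx : g = xGL D F r t := Units.ext (by rw [hg, xGL_val D _ htri])
    rw [SetLike.mem_coe, Subgroup.mem_comap, hgx]
    show h * xGL D F r t * h⁻¹ ∈ _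
    by_cases hr : r < D.nroots
    · rw [hc r hr t, mul_inv_cancel_right]
      exact xGL_mem_Lf D hD f r _ (by rw [map_mul, hχ r hr, ht])
    · have : xGL D F r t = 1 := by
        apply Units.ext
        rw [xGL_val D _ htri, Units.val_one]
        unfold ChevalleyDatum.x
        rw [dif_neg hr]
      rw [this]; simp
  exact hle hy

/-- structure of the fixed points: `g = l h` -/
theorem fix_decomp (g : GL D.Idx F) (hg : g ∈ D.group F) (hfix : glEquiv D f g = g) :
    ∃ l ∈ Lf D f, ∃ h ∈ D.diagonalSubgroup F, glEquiv D f h = h ∧ g = l * h := by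
  have htri := triOK_of_mem D hD
  obtain ⟨hex, huq⟩ := Cfsg.Agent.S1100.result (F := F) D hD
  obtain ⟨b, hb, n, hn, u, hu, e⟩ := hex g hg
  obtain ⟨h₀, hh₀, n₁, hn₁, rfl⟩ := monomial_decomp D hD n hn
  have hn₁N : n₁ ∈ D.monomialSubgroup F := by
    unfold ChevalleyDatum.monomialSubgroup
    exact Subgroup.mem_sup_right hn₁
  -- the set defining `U_n⁻` is the same for `h₀ n₁` and `n₁`
  have hset : {x : GL D.Idx F | ∃ (r : ℕ) (t : F), D.IsPosRoot r ∧
        (D.rootSubgroup F r).map (MulAut.conj (h₀ * n₁)).toMonoidHom ≤ D.negUnipotent F ∧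
        (x : Matrix D.Idx D.Idx F) = D.x F r t} =
      {x : GL D.Idx F | ∃ (r : ℕ) (t : F), (D.IsPosRoot r ∧
        (D.rootSubgroup F r).map (MulAut.conj n₁).toMonoidHom ≤ D.negUnipotent F) ∧
        (x : Matrix D.Idx D.Idx F) = D.x F r t} := by
    ext x
    simp only [Set.mem_ofPred_eq]
    have key : ∀ r : ℕ, (D.rootSubgroup F r).map (MulAut.conj (h₀ * n₁)).toMonoidHom ≤ D.negUnipotent F ↔
        (D.rootSubgroup F r).map (MulAut.conj n₁).toMonoidHom ≤ D.negUnipotent F := by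
      intro r
      show cjg (h₀ * n₁) _ ≤ _ ↔ cjg n₁ _ ≤ _
      rw [cjg_mul]
      constructor
      · intro h
        have := cjg_mono h₀⁻¹ h
        rwa [cjg_inv_cjg, cjg_diag_neg D hD _ (inv_mem hh₀)] at this
      · intro h
        have := cjg_mono h₀ h
        rwa [cjg_diag_neg D hD _ hh₀] at this
    constructor
    · rintro ⟨r, t, h1, h2, h3⟩
      exact ⟨r, t, ⟨h1, (key r).mp h2⟩, h3⟩
    · rintro ⟨r, t, ⟨h1, h2⟩, h3⟩
      exact ⟨r, t, h1, (key r).mpr h2, h3⟩
  rw [hset] at hu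
  have hset' : {x : GL D.Idx F | ∃ (r : ℕ) (t : F), D.IsPosRoot r ∧
        (D.rootSubgroup F r).map (MulAut.conj n₁).toMonoidHom ≤ D.negUnipotent F ∧
        (x : Matrix D.Idx D.Idx F) = D.x F r t} =
      {x : GL D.Idx F | ∃ (r : ℕ) (t : F), (D.IsPosRoot r ∧
        (D.rootSubgroup F r).map (MulAut.conj n₁).toMonoidHom ≤ D.negUnipotent F) ∧
        (x : Matrix D.Idx D.Idx F) = D.x F r t} := by
    ext x
    simp only [Set.mem_ofPred_eq, and_assoc]
  have hφu := glEquiv_rootClosure D hD f _ u hu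
  have huU : u ∈ D.posUnipotent F := by
    refine (Subgroup.closure_mono ?_) hu
    rintro x ⟨r, t, ⟨h1, -⟩, h3⟩
    exact ⟨r, t, h1, h3⟩
  set b' := b * h₀ with hb'def
  have hb' : b' ∈ D.borelSubgroup F := mul_mem hb (diagonal_le_borel D hD hh₀)
  have e' : g = b' * n₁ * u := by rw [e, hb'def]; group
  have e'' : b' * n₁ * u = glEquiv D f b' * n₁ * glEquiv D f u := by
    have := hfix
    rw [e', map_mul, map_mul, glEquiv_N1 D hD f n₁ hn₁] at this
    exact this.symm
  rw [← hset'] at hu hφu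
  obtain ⟨-, h2⟩ := huq b' (glEquiv D f b') n₁ n₁ u (glEquiv D f u) hb' (glEquiv_borel D hD f b' hb') hn₁N hn₁N
    hu hφu e''
  obtain ⟨hbfix, hufix⟩ := h2 rfl
  -- split b' = u₁ h₁
  obtain ⟨u₁, hu₁, h₁, hh₁, hbe⟩ := mem_borel_decomp D hD b' hb'
  have hUH := (Cfsg.Agent.S1036.result (F := F) D hD).2
  have hfix1 : (glEquiv D f u₁)⁻¹ * u₁ = glEquiv D f h₁ * h₁⁻¹ := by
    have : u₁ * h₁ = glEquiv D f u₁ * glEquiv D f h₁ := by
      rw [← map_mul, ← hbe]; exact hbfix
    calc (glEquiv D f u₁)⁻¹ * u₁ = (glEquiv D f u₁)⁻¹ * (u₁ * h₁) * h₁⁻¹ := by group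
      _ = glEquiv D f h₁ * h₁⁻¹ := by rw [this]; group
  have hmem : (glEquiv D f u₁)⁻¹ * u₁ ∈ D.posUnipotent F ⊓ D.diagonalSubgroup F := by
    refine Subgroup.mem_inf.mpr ⟨mul_mem (inv_mem (glEquiv_pos D hD f u₁ hu₁)) hu₁, ?_⟩
    rw [hfix1]
    exact mul_mem (glEquiv_diag D hD f h₁ hh₁) (inv_mem hh₁)
  rw [hUH, Subgroup.mem_bot] at hmem
  have hu₁fix : glEquiv D f u₁ = u₁ := by
    have := inv_mul_eq_one.mp hmem
    exact this
  have hh₁fix : glEquiv D f h₁ = h₁ := by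
    rw [hmem] at hfix1
    exact (mul_inv_eq_one.mp hfix1.symm)
  -- assemble
  have hu₁L := pos_fix D hD f u₁ hu₁ hu₁fix
  have huL := pos_fix D hD f u huU hufix.symm
  have hn₁L : n₁ ∈ Lf D f := L1_le_Lf D hD f (N1_le_L1 D hD hn₁)
  refine ⟨u₁ * (h₁ * (n₁ * u) * h₁⁻¹), mul_mem hu₁L (diag_fix_conj D hD f h₁ hh₁ hh₁fix _ (mul_mem hn₁L huL)),
    h₁, hh₁, hh₁fix, ?_⟩
  rw [e', hbe]; group

/-- subgroups between `Lf` and the fixed points are normalised by all fixed points -/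
theorem fix_normalizes (K : Subgroup (GL D.Idx F)) (hLK : Lf D f ≤ K) (hKG : K ≤ D.group F)
    (hKfix : ∀ y ∈ K, glEquiv D f y = y) (g : GL D.Idx F) (hg : g ∈ D.group F) (hfix : glEquiv D f g = g)
    (y : GL D.Idx F) (hy : y ∈ K) : g * y * g⁻¹ ∈ K := by
  obtain ⟨l, hl, h, hh, hhfix, rfl⟩ := fix_decomp D hD f g hg hfix
  obtain ⟨l', hl', h', hh', -, rfl⟩ := fix_decomp D hD f y (hKG hy) (hKfix y hy)
  have hh'K : h' ∈ K := by
    have : h' = l'⁻¹ * (l' * h') := by group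
    rw [this]; exact mul_mem (inv_mem (hLK hl')) hy
  have e : l * h * (l' * h') * (l * h)⁻¹ = l * (h * l' * h⁻¹) * (h * h' * h⁻¹) * l⁻¹ := by group
  have e2 : h * h' * h⁻¹ = h' := by
    rw [diag_comm D hD h h' hh hh']; group
  rw [e, e2]
  exact mul_mem (mul_mem (mul_mem (hLK hl) (hLK (diag_fix_conj D hD f h hh hhfix l' hl'))) hh'K) (inv_mem (hLK hl))

end

end Cfsg.Agent.Helper18.Sub
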