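import Cfsg.Agent.Helper18.Sub.Cent2
import Cfsg.Agent.S1080

/-!
Helper18: the automorphism of `GL` induced by a field automorphism `f`, on the standard subgroups of a Chevalley
group: `x_r(t) ↦ x_r(f t)`, words go to words, `U`, `V`, `H`, `B` are preserved, the `n_r(1)` are fixed.
-/

set_option autoImplicit false

namespace Cfsg.Agent.Helper18.Sub

open Cfsg Cfsg.Lie Cfsg.Agent.Helper18 Cfsg.Agent.Helper18.Aut Cfsg.Agent.S1080

section

variable {F : Type*} [Field F] (D : ChevalleyDatum)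
  (hD : D ∈ [chevG2, chevB2, chevD4, chevF4, chevE6, chevE7, chevE8]) (f : F ≃+* F)

theorem glEquiv_eq_self_iff (g : GL D.Idx F) :
    glEquiv D f g = g ↔ ∀ i j : D.Idx, f ((g : Matrix D.Idx D.Idx F) i j) = (g : Matrix D.Idx D.Idx F) i j := by
  constructor
  · intro h i j
    have := congrArg (fun x : GL D.Idx F => (x : Matrix D.Idx D.Idx F) i j) h
    simpa [glEquiv_coe] using this
  · intro h
    apply Units.ext
    rw [glEquiv_coe]
    ext i j
    simpa using h i j

include hD

theorem glEquiv_xGL (r : ℕ) (t : F) : glEquiv D f (xGL D F r t) = xGL D F r (f t) := by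
  have htri := triOK_of_mem D hD
  apply Units.ext
  rw [glEquiv_coe, xGL_val D _ htri, xGL_val D _ htri]
  exact x_map D (f : F →+* F) r t

theorem glEquiv_wordGL (w : List (ℕ × F)) :
    glEquiv D f (wordGL D F w) = wordGL D F (w.map fun p => (p.1, f p.2)) := by
  induction w with
  | nil => simp [wordGL]
  | cons p w ih =>
    have e1 : wordGL D F (p :: w) = xGL D F p.1 p.2 * wordGL D F w := by simp [wordGL]
    have e2 : wordGL D F ((p :: w).map fun p => (p.1, f p.2)) =
        xGL D F p.1 (f p.2) * wordGL D F (w.map fun p => (p.1, f p.2)) := by simp [wordGL]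
    rw [e1, e2, map_mul, ih, glEquiv_xGL D hD]

theorem glEquiv_nWordGL (r : ℕ) (t : F) :
    glEquiv D f (wordGL D F (D.nWord r t)) = wordGL D F (D.nWord r (f t)) := by
  rw [glEquiv_wordGL D hD]
  congr 1
  simp [ChevalleyDatum.nWord, map_neg, map_inv₀]

theorem glEquiv_nWordGL_one (r : ℕ) :
    glEquiv D f (wordGL D F (D.nWord r (1 : F))) = wordGL D F (D.nWord r (1 : F)) := by
  rw [glEquiv_nWordGL D hD, map_one]

theorem glEquiv_hWordGL (r : ℕ) (t : F) :
    glEquiv D f (wordGL D F (D.hWord r t)) = wordGL D F (D.hWord r (f t)) := by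
  rw [glEquiv_wordGL D hD]
  congr 1
  simp [ChevalleyDatum.hWord, ChevalleyDatum.nWord, map_neg, map_inv₀]

/-- subgroups generated by root elements over a set of roots are preserved -/
theorem glEquiv_rootClosure (R : ℕ → Prop) (x : GL D.Idx F)
    (hx : x ∈ Subgroup.closure {g : GL D.Idx F | ∃ (r : ℕ) (t : F), R r ∧ (g : Matrix D.Idx D.Idx F) = D.x F r t}) :
    glEquiv D f x ∈
      Subgroup.closure {g : GL D.Idx F | ∃ (r : ℕ) (t : F), R r ∧ (g : Matrix D.Idx D.Idx F) = D.x F r t} := by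
  have htri := triOK_of_mem D hD
  have hle : Subgroup.closure {g : GL D.Idx F | ∃ (r : ℕ) (t : F), R r ∧ (g : Matrix D.Idx D.Idx F) = D.x F r t} ≤
      (Subgroup.closure {g : GL D.Idx F | ∃ (r : ℕ) (t : F), R r ∧
        (g : Matrix D.Idx D.Idx F) = D.x F r t}).comap (glEquiv D f).toMonoidHom := by
    rw [Subgroup.closure_le]
    rintro g ⟨r, t, hr, hg⟩
    have : g = xGL D F r t := Units.ext (by rw [hg, xGL_val D _ htri])
    rw [SetLike.mem_coe, Subgroup.mem_comap, this]
    show glEquiv D f (xGL D F r t) ∈ _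
    rw [glEquiv_xGL D hD]
    exact Subgroup.subset_closure ⟨r, f t, hr, xGL_val D _ htri _ _⟩
  exact hle hx

theorem glEquiv_pos (x : GL D.Idx F) (hx : x ∈ D.posUnipotent F) : glEquiv D f x ∈ D.posUnipotent F :=
  glEquiv_rootClosure D hD f D.IsPosRoot x hx

theorem glEquiv_neg (x : GL D.Idx F) (hx : x ∈ D.negUnipotent F) : glEquiv D f x ∈ D.negUnipotent F :=
  glEquiv_rootClosure D hD f D.IsNegRoot x hx

theorem glEquiv_diag (x : GL D.Idx F) (hx : x ∈ D.diagonalSubgroup F) : glEquiv D f x ∈ D.diagonalSubgroup F := by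
  have htri := triOK_of_mem D hD
  have hle : D.diagonalSubgroup F ≤ (D.diagonalSubgroup F).comap (glEquiv D f).toMonoidHom := by
    unfold ChevalleyDatum.diagonalSubgroup
    rw [Subgroup.closure_le]
    rintro g ⟨r, t, hr, ht, hg⟩
    have : g = wordGL D F (D.hWord r t) := Units.ext (by rw [hg, wordGL_val D _ htri]; rfl)
    rw [SetLike.mem_coe, Subgroup.mem_comap, this]
    show glEquiv D f (wordGL D F (D.hWord r t)) ∈ _
    rw [glEquiv_hWordGL D hD]
    refine Subgroup.subset_closure ⟨r, f t, hr, ?_, ?_⟩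
    · exact (map_ne_zero f).mpr ht
    · rw [wordGL_val D _ htri]; rfl
  exact hle hx

theorem glEquiv_borel (x : GL D.Idx F) (hx : x ∈ D.borelSubgroup F) : glEquiv D f x ∈ D.borelSubgroup F := by
  obtain ⟨u, hu, h, hh, rfl⟩ := mem_borel_decomp D hD x hx
  rw [map_mul]
  exact mul_mem (posUnipotent_le_borel D hD (glEquiv_pos D hD f u hu))
    (diagonal_le_borel D hD (glEquiv_diag D hD f h hh))

/-- the subgroup generated by the `n_r(1)` -/
def N1 (D : ChevalleyDatum) (F : Type*) [Field F] : Subgroup (GL D.Idx F) :=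
  Subgroup.closure {g | ∃ r : ℕ, r < D.nroots ∧ (g : Matrix D.Idx D.Idx F) = D.nMat F r 1}

theorem glEquiv_N1 (x : GL D.Idx F) (hx : x ∈ N1 D F) : glEquiv D f x = x := by
  have htri := triOK_of_mem D hD
  have hle : N1 D F ≤ (MonoidHom.eqLocus (glEquiv D f).toMonoidHom (MonoidHom.id _)) := by
    unfold N1
    rw [Subgroup.closure_le]
    rintro g ⟨r, hr, hg⟩
    have : g = wordGL D F (D.nWord r (1 : F)) := Units.ext (by rw [hg, nWordGL_val D hD])
    rw [this]
    exact glEquiv_nWordGL_one D hD f r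
  exact hle hx

theorem N1_le_L1 : N1 D F ≤ L1 D F := by
  unfold N1
  rw [Subgroup.closure_le]
  rintro g ⟨r, hr, hg⟩
  have : g = wordGL D F (D.nWord r (1 : F)) := Units.ext (by rw [hg, nWordGL_val D hD])
  rw [this]
  exact nWordGL_mem_L1 D hD r hr

/-- `N = H N₁` -/
theorem monomial_decomp (n : GL D.Idx F) (hn : n ∈ D.monomialSubgroup F) :
    ∃ h ∈ D.diagonalSubgroup F, ∃ n₁ ∈ N1 D F, n = h * n₁ := by
  have hle : N1 D F ≤ Subgroup.normalizer (D.diagonalSubgroup F : Set (GL D.Idx F)) := by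
    intro x hx
    have hxN : x ∈ D.monomialSubgroup F := by
      unfold ChevalleyDatum.monomialSubgroup
      exact Subgroup.mem_sup_right hx
    rw [Subgroup.mem_normalizer_iff]
    intro h
    have e := cjg_monomial_diag D hD x hxN
    constructor
    · intro hh
      rw [← e]; exact conj_mem_cjg hh
    · intro hh
      have := cjg_monomial_diag D hD x⁻¹ (inv_mem hxN)
      have h2 : x⁻¹ * (x * h * x⁻¹) * x⁻¹⁻¹ ∈ cjg x⁻¹ (D.diagonalSubgroup F) := conj_mem_cjg hh
      rw [this] at h2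
      have e3 : x⁻¹ * (x * h * x⁻¹) * x⁻¹⁻¹ = h := by group
      rwa [e3] at h2
  unfold ChevalleyDatum.monomialSubgroup at hn
  change n ∈ D.diagonalSubgroup F ⊔ N1 D F at hn
  rw [← SetLike.mem_coe, Subgroup.coe_mul_of_right_le_normalizer_left _ _ hle] at hn
  obtain ⟨h, hh, n₁, hn₁, rfl⟩ := hn
  exact ⟨h, hh, n₁, hn₁, rfl⟩

end

end Cfsg.Agent.Helper18.Sub
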